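import Cfsg.Agent.Lib.Linear.SLn
import Cfsg.Agent.Lib.Linear.SpBlocks
import Cfsg.Agent.Lib.PGroup.Basic

/-
The upper unitriangular subgroup of `SL_n` over a finite field and its fusion
(namespace `Cfsg.Agent.SLFusion`).
* `slB`, `slU`, `slSylow` : Borel, unipotent radical, the standard Sylow `p`-subgroup;
* `mem_slB_of_normalizes`, `exists_eq_mul_torus`, `torus_mem` ;
* `isConj_transvection`, `eq_slU_of_closed` : closed nontrivial normal subgroups are everything;
* `slR`, `transvection_normalizes_slR`, `centralizer_slR` : radicals of minimal parabolics.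
-/

set_option autoImplicit false

namespace Cfsg.Agent.SLFusion

open Matrix Cfsg.Agent.Linear

variable {K : Type*} [Field K] {n : ℕ}

local notation "SL(" n ", " K ")" => Matrix.SpecialLinearGroup (Fin n) K

variable [Finite K]

/-- Upper triangular elements of `SL_n`. -/
def slB (n : ℕ) (K : Type*) [Field K] [Finite K] : Subgroup (Matrix.SpecialLinearGroup (Fin n) K) :=
  subgroupOfSubmonoidFinite
    { carrier := {g | ∀ i j : Fin n, j < i → g.1 i j = 0}
      one_mem' := fun i j h => by simp [Matrix.one_apply_ne h.ne']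
      mul_mem' := fun {a b} ha hb i j h => by
        rw [Matrix.SpecialLinearGroup.coe_mul, Matrix.mul_apply]
        refine Finset.sum_eq_zero fun k _ => ?_
        rcases lt_or_ge k i with h1 | h1
        · rw [ha i k h1, zero_mul]
        · rw [hb k j (h.trans_le h1), mul_zero] }

theorem mem_slB {g : SL(n, K)} : g ∈ slB n K ↔ ∀ i j : Fin n, j < i → g.1 i j = 0 := Iff.rfl

/-- The upper unitriangular subgroup of `SL_n`. -/
def slU (n : ℕ) (K : Type*) [Field K] [Finite K] : Subgroup (Matrix.SpecialLinearGroup (Fin n) K) :=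
  subgroupOfSubmonoidFinite
    { carrier := {g | IsUpperUni g.1}
      one_mem' := isUpperUni_one
      mul_mem' := fun {a b} ha hb => by
        show IsUpperUni (a * b).1
        rw [Matrix.SpecialLinearGroup.coe_mul]
        exact IsUpperUni.mul ha hb }

theorem mem_slU {g : SL(n, K)} : g ∈ slU n K ↔ IsUpperUni g.1 := Iff.rfl

theorem slU_le_slB : slU n K ≤ slB n K := fun g hg i j h => by
  rw [(mem_slU.1 hg) i j h.le, if_neg h.ne']

theorem diag_mul {a b : SL(n, K)} (ha : a ∈ slB n K) (hb : b ∈ slB n K) (i : Fin n) :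
    (a * b).1 i i = a.1 i i * b.1 i i := by
  rw [Matrix.SpecialLinearGroup.coe_mul, Matrix.mul_apply, Finset.sum_eq_single i]
  · intro k _ hk
    rcases lt_or_gt_of_ne hk with h | h
    · rw [mem_slB.1 ha i k h, zero_mul]
    · rw [mem_slB.1 hb k i h, mul_zero]
  · simp

theorem mem_slU_iff_diag {g : SL(n, K)} (hg : g ∈ slB n K) : g ∈ slU n K ↔ ∀ i, g.1 i i = 1 := by
  refine ⟨fun h i => by rw [mem_slU.1 h i i le_rfl, if_pos rfl], fun h i j hji => ?_⟩
  rcases hji.lt_or_eq with hlt | rfl
  · rw [mem_slB.1 hg i j hlt, if_neg hlt.ne']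
  · rw [h, if_pos rfl]

theorem slU_conj {g u : SL(n, K)} (hg : g ∈ slB n K) (hu : u ∈ slU n K) : g * u * g⁻¹ ∈ slU n K := by
  have hgu := mul_mem hg (slU_le_slB hu)
  refine (mem_slU_iff_diag (mul_mem hgu (inv_mem hg))).2 fun i => ?_
  rw [diag_mul hgu (inv_mem hg), diag_mul hg (slU_le_slB hu), mem_slU.1 hu i i le_rfl, if_pos rfl,
    mul_one, ← diag_mul hg (inv_mem hg), mul_inv_cancel]
  simp

theorem transvection_mem_slU {i j : Fin n} (hij : i ≠ j) (h : i < j) (c : K) :
    Matrix.SpecialLinearGroup.transvection hij c ∈ slU n K := by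
  intro a b hba
  show Matrix.transvection i j c a b = _
  have : ¬ (i = a ∧ j = b) := fun e => absurd hba (not_le.2 (e.1 ▸ e.2 ▸ h))
  rw [Matrix.transvection, Matrix.add_apply, Matrix.one_apply,
    Matrix.single_apply_of_ne _ _ _ _ _ this, add_zero]

theorem mem_slB_of_normalizes {g : SL(n, K)}
    (hg : ∀ u ∈ slU n K, g⁻¹ * u * g ∈ slU n K) : g ∈ slB n K := by
  suffices h : ∀ m : ℕ, ∀ i j : Fin n, j.1 ≤ m → j < i → g.1 i j = 0 from
    fun i j hij => h j.1 i j le_rfl hij
  intro m
  induction m using Nat.strong_induction_on with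
  | _ m ih =>
    intro i j hjm hij
    have hv := hg _ (transvection_mem_slU hij.ne hij (1 : K))
    set v := g⁻¹ * Matrix.SpecialLinearGroup.transvection hij.ne (1 : K) * g with hvdef
    have e : Matrix.SpecialLinearGroup.transvection hij.ne (1 : K) * g = g * v := by
      rw [hvdef]; group
    have e' : (Matrix.transvection j i (1 : K) * g.1) j j = (g.1 * v.1) j j :=
      congrFun (congrFun (congrArg Subtype.val e) j) j
    rw [Matrix.transvection_mul_apply_same, one_mul, Matrix.mul_apply, Finset.sum_eq_single j,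
      mem_slU.1 hv j j le_rfl, if_pos rfl, mul_one] at e'
    · exact (add_eq_left).1 e'
    · intro l _ hl
      rcases lt_or_gt_of_ne hl with h | h
      · rw [ih l.1 (Nat.lt_of_lt_of_le h hjm) j l le_rfl h, zero_mul]
      · rw [mem_slU.1 hv l j h.le, if_neg h.ne', mul_zero]
    · simp

theorem strictUpper_pow {N : Matrix (Fin n) (Fin n) K} (hN : ∀ i j, j ≤ i → N i j = 0) :
    ∀ (m : ℕ) (i j : Fin n), j.1 < i.1 + m → (N ^ m) i j = 0 := by
  intro m
  induction m with
  | zero =>
    intro i j h
    rw [pow_zero, Matrix.one_apply_ne]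
    intro e
    subst e
    omega
  | succ m ih =>
    intro i j h
    rw [pow_succ, Matrix.mul_apply]
    refine Finset.sum_eq_zero fun k _ => ?_
    rcases lt_or_ge k.1 (i.1 + m) with h1 | h1
    · rw [ih i k h1, zero_mul]
    · rw [hN k j (by rw [Fin.le_def]; omega), mul_zero]

theorem slU_pow_eq_one (p : ℕ) [Fact p.Prime] [CharP K p] {u : SL(n, K)} (hu : u ∈ slU n K) :
    u ^ p ^ n = 1 := by
  refine Subtype.ext ?_
  rw [Matrix.SpecialLinearGroup.coe_pow, Matrix.SpecialLinearGroup.coe_one]
  rcases Nat.eq_zero_or_pos n with rfl | hn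
  · exact Subsingleton.elim _ _
  haveI : Nonempty (Fin n) := ⟨⟨0, hn⟩⟩
  haveI : CharP (Matrix (Fin n) (Fin n) K) p := Matrix.charP p
  rw [← sub_eq_zero]
  conv_lhs => rw [← one_pow (M := Matrix (Fin n) (Fin n) K) (p ^ n)]
  rw [← sub_pow_char_pow_of_commute p n (Commute.one_right (u : Matrix (Fin n) (Fin n) K))]
  refine Matrix.ext fun i j => ?_
  refine strictUpper_pow (fun a b h => ?_) _ i j ?_
  · rw [Matrix.sub_apply, mem_slU.1 hu a b h, Matrix.one_apply, sub_self]
  · have : n ≤ p ^ n := (Nat.lt_pow_self (Fact.out : p.Prime).one_lt).le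
    omega

theorem mem_slU_of_pow (p : ℕ) [Fact p.Prime] [CharP K p] {g : SL(n, K)}
    (hg : g ∈ slB n K) {k : ℕ} (hk : g ^ p ^ k = 1) : g ∈ slU n K := by
  refine (mem_slU_iff_diag hg).2 fun i => ?_
  have hpow : ∀ m : ℕ, (g ^ m).1 i i = g.1 i i ^ m := by
    intro m
    induction m with
    | zero => simp
    | succ m ih => rw [pow_succ, diag_mul (pow_mem hg m) hg, ih, pow_succ]
  have h1 := hpow (p ^ k)
  rw [hk] at h1
  exact iterateFrobenius_inj K p k (by simpa [iterateFrobenius_def] using h1.symm)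

theorem slU_maximal (p : ℕ) [Fact p.Prime] [CharP K p] {P : Subgroup SL(n, K)}
    (hP : IsPGroup p P) (hle : slU n K ≤ P) : P = slU n K := by
  by_contra hne
  have hlt : (slU n K).subgroupOf P < ⊤ :=
    lt_top_iff_ne_top.2 fun h => hne (le_antisymm (Subgroup.subgroupOf_eq_top.1 h) hle)
  have hn := Group.normalizerCondition_of_isNilpotent (G := P) (h := hP.isNilpotent) _ hlt
  obtain ⟨g, hgN, hgU⟩ := SetLike.exists_of_lt hn
  refine hgU (Subgroup.mem_subgroupOf.2 ?_)
  obtain ⟨k, hk⟩ := hP g
  refine mem_slU_of_pow p (mem_slB_of_normalizes fun u hu => ?_) (k := k) (congrArg Subtype.val hk)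
  have hu' : (⟨u, hle hu⟩ : P) ∈ (slU n K).subgroupOf P := Subgroup.mem_subgroupOf.2 hu
  exact Subgroup.mem_subgroupOf.1 ((Subgroup.mem_normalizer_iff''.1 hgN _).1 hu')

/-- The standard Sylow `p`-subgroup of `SL_n`. -/
noncomputable def slSylow (n : ℕ) (K : Type*) [Field K] [Finite K] (p : ℕ) [Fact p.Prime]
    [CharP K p] : Sylow p (Matrix.SpecialLinearGroup (Fin n) K) where
  toSubgroup := slU n K
  isPGroup' := fun u => ⟨n, Subtype.ext (slU_pow_eq_one p u.2)⟩
  is_maximal' hP hle := slU_maximal p hP hle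

/-! ### The torus -/

/-- A diagonal element of `SL_n`. -/
def slDiag (d : Fin n → Kˣ) (hd : ∏ i, d i = 1) : SL(n, K) :=
  ⟨Matrix.diagonal fun i => (d i : K), by
    rw [Matrix.det_diagonal, ← Units.coe_prod, hd, Units.val_one]⟩

theorem exists_eq_mul_torus {g : SL(n, K)} (hg : g ∈ slB n K) :
    ∃ u ∈ slU n K, ∃ (d : Fin n → Kˣ) (hd : ∏ i, d i = 1), g = u * slDiag d hd := by
  have hdet : ∏ i, g.1 i i = 1 := by
    rw [← Matrix.det_of_upperTriangular (M := g.1) fun i j h => mem_slB.1 hg i j h]
    exact g.2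
  have hne : ∀ i, g.1 i i ≠ 0 := fun i h => by
    have h' := Finset.prod_eq_zero (f := fun i => g.1 i i) (Finset.mem_univ i) h
    rw [hdet] at h'
    exact one_ne_zero h'
  let d : Fin n → Kˣ := fun i => Units.mk0 (g.1 i i) (hne i)
  have hd : ∏ i, d i = 1 := Units.ext (by rw [Units.coe_prod]; exact hdet)
  have hinv : ∏ i, (d i)⁻¹ = 1 := by rw [Finset.prod_inv_distrib, hd, inv_one]
  refine ⟨g * slDiag (fun i => (d i)⁻¹) hinv, fun i j hji => ?_, d, hd, ?_⟩
  · show (g.1 * Matrix.diagonal fun i => (((d i)⁻¹ : Kˣ) : K)) i j = _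
    rw [Matrix.mul_diagonal]
    rcases hji.lt_or_eq with h | h
    · rw [mem_slB.1 hg i j h, zero_mul, if_neg h.ne']
    · subst h
      rw [if_pos rfl, show g.1 j j = (d j : K) from rfl, ← Units.val_mul, mul_inv_cancel, Units.val_one]
  · refine Subtype.ext ?_
    show g.1 = g.1 * (Matrix.diagonal fun i => (((d i)⁻¹ : Kˣ) : K)) * Matrix.diagonal fun i => (d i : K)
    rw [Matrix.mul_assoc, Matrix.diagonal_mul_diagonal]
    simp

theorem slDiag_mem_slB (d : Fin n → Kˣ) (hd : ∏ i, d i = 1) : slDiag d hd ∈ slB n K :=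
  fun _ _ h => Matrix.diagonal_apply_ne _ h.ne'

theorem diag2n_mem_slB {i j : Fin n} (hij : i ≠ j) (a : K) (ha : a ≠ 0) :
    Matrix.SpecialLinearGroup.diag2n hij a ha ∈ slB n K :=
  fun _ _ h => Matrix.diagonal_apply_ne _ h.ne'

theorem torus_mem {H : Subgroup SL(n, K)}
    (h : ∀ (k k' : Fin n) (hne : k ≠ k'), k'.1 = k.1 + 1 → ∀ (a : K) (ha : a ≠ 0),
      Matrix.SpecialLinearGroup.diag2n hne a ha ∈ H)
    (d : Fin n → Kˣ) (hd : ∏ i, d i = 1) : slDiag d hd ∈ H := by
  suffices key : ∀ (m : ℕ) (d : Fin n → Kˣ) (hd : ∏ i, d i = 1),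
      (∀ i : Fin n, m ≤ i.1 → d i = 1) → slDiag d hd ∈ H from
    key n d hd fun i hi => absurd i.2 (by omega)
  intro m
  induction m with
  | zero =>
    intro d hd hm
    convert H.one_mem
    refine Subtype.ext ?_
    show (Matrix.diagonal fun i => (d i : K)) = (1 : Matrix (Fin n) (Fin n) K)
    simp [hm]
  | succ m ih =>
    intro d hd hm
    by_cases hmn : n ≤ m
    · exact ih d hd fun i hi => absurd i.2 (by omega)
    rcases Nat.eq_zero_or_pos m with rfl | hm0
    · refine ih d hd fun i _ => ?_
      by_cases hi : i.1 = 0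
      · have := hd
        rw [Finset.prod_eq_single i] at this
        · exact this
        · intro j _ hj
          exact hm j (by have : j.1 ≠ i.1 := fun e => hj (Fin.ext e); omega)
        · simp
      · exact hm i (by omega)
    set k : Fin n := ⟨m - 1, by omega⟩ with hk
    set k' : Fin n := ⟨m, by omega⟩ with hk'
    have hne : k ≠ k' := fun e => by simp [hk, hk', Fin.ext_iff] at e; omega
    let d' : Fin n → Kˣ := fun i => if i = k then d i * d k' else if i = k' then 1 else d i
    have hd' : ∏ i, d' i = 1 := by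
      have e : ∀ i, d' i = d i * (if i = k then d k' else if i = k' then (d k')⁻¹ else 1) := by
        intro i
        by_cases h1 : i = k
        · simp [d', h1]
        · by_cases h2 : i = k'
          · subst h2; simp [d', h1]
          · simp [d', h1, h2]
      simp only [e, Finset.prod_mul_distrib, hd, one_mul]
      rw [Finset.prod_eq_mul k k' hne]
      · simp [hne.symm]
      · intro i _ hi; simp [hi.1, hi.2]
      · simp
      · simp
    have h1 := ih d' hd' fun i hi => by
      by_cases h2 : i = k'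
      · simp [d', h2, hne.symm]
      · have h3 : i ≠ k := fun e => by subst e; simp [hk] at hi; omega
        simp only [d', if_neg h3, if_neg h2]
        exact hm i (by have : i.1 ≠ m := fun e => h2 (Fin.ext e); omega)
    have h2 := h k k' hne (by simp [hk, hk']; omega) ((d k' : K)⁻¹) (inv_ne_zero (Units.ne_zero _))
    convert mul_mem h1 h2 using 1
    refine Subtype.ext ?_
    show (Matrix.diagonal fun i => (d i : K)) =
      (Matrix.diagonal fun i => (d' i : K)) * Matrix.diagonal _
    rw [Matrix.diagonal_mul_diagonal]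
    congr 1
    funext i
    by_cases h1 : i = k
    · subst h1; simp [d', mul_assoc]
    · by_cases h2 : i = k'
      · subst h2; simp [d', h1]
      · simp [d', h1, h2]

/-! ### Transvections -/

theorem isConj_transvection (hn : 3 ≤ n) {i j a b : Fin n} (hij : i ≠ j) (hab : a ≠ b) {c e : K}
    (hc : c ≠ 0) (he : e ≠ 0) :
    IsConj (Matrix.SpecialLinearGroup.transvection hij c)
      (Matrix.SpecialLinearGroup.transvection hab e) := by
  obtain ⟨σ, hσa, hσb⟩ : ∃ σ : Equiv.Perm (Fin n), σ a = i ∧ σ b = j := by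
    refine ⟨Equiv.swap (Equiv.swap a i b) j * Equiv.swap a i, ?_, ?_⟩
    · rw [Equiv.Perm.mul_apply, Equiv.swap_apply_left, Equiv.swap_apply_of_ne_of_ne ?_ hij]
      intro h'
      exact hab ((Equiv.swap a i).injective (by rw [Equiv.swap_apply_left, ← h']))
    · rw [Equiv.Perm.mul_apply, Equiv.swap_apply_left]
  obtain ⟨k, hik, hkj⟩ := exists_third (ι := Fin n) (by simpa using hn) i j
  let s : K := ((Equiv.Perm.sign σ : ℤ) : K)
  have hs : s * s = 1 := by
    show ((Equiv.Perm.sign σ : ℤ) : K) * ((Equiv.Perm.sign σ : ℤ) : K) = 1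
    rw [← Int.cast_mul, ← Units.val_mul, Int.units_mul_self, Units.val_one, Int.cast_one]
  let d : Fin n → K := fun x => if x = i then e / c else if x = k then s * (c / e) else 1
  have hdet : ((Matrix.diagonal d).submatrix σ id).det = 1 := by
    rw [Matrix.det_permute, Matrix.det_diagonal, Finset.prod_eq_mul i k hik]
    · simp only [d, if_pos, if_neg hik.symm]
      calc s * (e / c * (s * (c / e))) = (s * s) * ((e / c) * (c / e)) := by ring
        _ = 1 := by rw [hs, one_mul]; field_simp
    · intro x _ hx; simp [d, hx.1, hx.2]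
    · simp
    · simp
  refine isConj_iff.2 ⟨⟨_, hdet⟩, mul_inv_eq_iff_eq_mul.2 (Subtype.ext ?_)⟩
  show (Matrix.diagonal d).submatrix σ id * Matrix.transvection i j c =
    Matrix.transvection a b e * (Matrix.diagonal d).submatrix σ id
  have hM : ∀ r y, ((Matrix.diagonal d).submatrix σ id) r y = if σ r = y then d y else 0 := by
    intro r y
    rw [Matrix.submatrix_apply, id, Matrix.diagonal_apply]
    split_ifs with h
    · rw [h]
    · rfl
  have hdi : d i = e / c := if_pos rfl
  have hdj : d j = 1 := by simp [d, hij.symm, hkj.symm]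
  ext r y
  by_cases hr : r = a <;> by_cases hy : y = j
  · subst hr hy
    rw [Matrix.mul_transvection_apply_same, Matrix.transvection_mul_apply_same]
    simp only [hM, hσa, hσb, hij, if_true, if_false, hdi, hdj]
    field_simp
  · subst hr
    rw [Matrix.mul_transvection_apply_of_ne _ _ _ _ hy, Matrix.transvection_mul_apply_same]
    simp only [hM, hσb, Ne.symm hy, if_false, mul_zero, add_zero]
  · subst hy
    rw [Matrix.mul_transvection_apply_same, Matrix.transvection_mul_apply_of_ne _ _ _ _ hr]
    have : σ r ≠ i := fun h => hr (σ.injective (h.trans hσa.symm))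
    simp only [hM, this, if_false, mul_zero, add_zero]
  · rw [Matrix.mul_transvection_apply_of_ne _ _ _ _ hy,
      Matrix.transvection_mul_apply_of_ne _ _ _ _ hr]

theorem slU_le_of_transvections {H : Subgroup SL(n, K)}
    (hH : ∀ (i j : Fin n) (hij : i ≠ j), i < j → ∀ c : K,
      Matrix.SpecialLinearGroup.transvection hij c ∈ H) : slU n K ≤ H := by
  classical
  suffices key : ∀ (m : ℕ) (u : SL(n, K)), u ∈ slU n K →
      (Finset.univ.filter fun x : Fin n × Fin n => x.1 ≠ x.2 ∧ u.1 x.1 x.2 ≠ 0).card = m → u ∈ H from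
    fun u hu => key _ u hu rfl
  intro m
  induction m using Nat.strong_induction_on with
  | _ m ih =>
    intro u hu hm
    set T := Finset.univ.filter fun x : Fin n × Fin n => x.1 ≠ x.2 ∧ u.1 x.1 x.2 ≠ 0
    rcases T.eq_empty_or_nonempty with hT | hT
    · convert H.one_mem
      refine Subtype.ext (Matrix.ext fun i j => ?_)
      rw [Matrix.SpecialLinearGroup.coe_one]
      by_cases hij : i = j
      · subst hij; rw [mem_slU.1 hu i i le_rfl, if_pos rfl, Matrix.one_apply_eq]
      · rw [Matrix.one_apply_ne hij]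
        by_contra h
        have : (i, j) ∈ T := by simp [T, hij, h]
        rw [hT] at this
        exact Finset.notMem_empty _ this
    obtain ⟨⟨i, j⟩, hij, hmax⟩ := T.exists_max_image (fun x => x.1) hT
    simp only [T, Finset.mem_filter, Finset.mem_univ, true_and] at hij
    have hlt : i < j := lt_of_not_ge fun h => hij.2 (by rw [mem_slU.1 hu i j h, if_neg hij.1])
    have hrow : ∀ y, u.1 j y = if j = y then 1 else 0 := by
      intro y
      by_cases hy : y = j
      · subst hy; rw [mem_slU.1 hu y y le_rfl, if_pos rfl]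
      rw [if_neg (Ne.symm hy)]
      by_contra h
      exact absurd hlt (not_lt.2 (hmax (j, y) (by simp [T, Ne.symm hy, h])))
    set t := Matrix.SpecialLinearGroup.transvection hij.1 (u.1 i j) with ht
    have htinv : t⁻¹ = Matrix.SpecialLinearGroup.transvection hij.1 (-u.1 i j) :=
      Matrix.SpecialLinearGroup.transvection_inv _ _
    set u' := t⁻¹ * u with hu'def
    have hu' : u' ∈ slU n K := mul_mem (inv_mem (transvection_mem_slU hij.1 hlt _)) hu
    have hval : ∀ x y, u'.1 x y = if x = i ∧ y = j then 0 else u.1 x y := by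
      intro x y
      rw [hu'def, htinv]
      show (Matrix.transvection i j (-u.1 i j) * u.1) x y = _
      by_cases hx : x = i
      · subst hx
        rw [Matrix.transvection_mul_apply_same, hrow]
        by_cases hy : y = j
        · subst hy; simp
        · simp [Ne.symm hy, hy]
      · rw [Matrix.transvection_mul_apply_of_ne _ _ _ _ hx, if_neg (fun h => hx h.1)]
    have hsub : (Finset.univ.filter fun x : Fin n × Fin n => x.1 ≠ x.2 ∧ u'.1 x.1 x.2 ≠ 0) ⊂ T := by
      refine Finset.ssubset_iff_subset_ne.2 ⟨fun x hx => ?_, fun e => ?_⟩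
      · simp only [Finset.mem_filter, Finset.mem_univ, true_and, hval] at hx
        simp only [T, Finset.mem_filter, Finset.mem_univ, true_and]
        refine ⟨hx.1, fun h => hx.2 ?_⟩
        split_ifs <;> simp [h]
      · have : (i, j) ∈ T := by simp [T, hij.1, hij.2]
        rw [← e] at this
        simp [hval] at this
    have hmem := ih _ (hm ▸ Finset.card_lt_card hsub) u' hu' rfl
    rw [show u = t * u' by rw [hu'def, mul_inv_cancel_left]]
    exact mul_mem (hH i j hij.1 hlt _) hmem

theorem transvection_zero {i j : Fin n} (hij : i ≠ j) :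
    Matrix.SpecialLinearGroup.transvection hij (0 : K) = 1 :=
  Subtype.ext (Matrix.transvection_zero (i := i) (j := j))

theorem commute_transvection {g : SL(n, K)} {i j : Fin n} (hij : i ≠ j)
    (h : g * Matrix.SpecialLinearGroup.transvection hij 1 =
      Matrix.SpecialLinearGroup.transvection hij 1 * g) :
    g.1 i i = g.1 j j ∧ (∀ r, r ≠ i → g.1 r i = 0) ∧ ∀ c, c ≠ j → g.1 j c = 0 := by
  have e : ∀ r c, (g.1 * Matrix.transvection i j (1 : K)) r c =
      (Matrix.transvection i j (1 : K) * g.1) r c :=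
    fun r c => congrFun (congrFun (congrArg Subtype.val h) r) c
  refine ⟨?_, fun r hr => ?_, fun c hc => ?_⟩
  · have := e i j
    rw [Matrix.mul_transvection_apply_same, Matrix.transvection_mul_apply_same, one_mul, one_mul] at this
    exact add_left_cancel this
  · have := e r j
    rw [Matrix.mul_transvection_apply_same, Matrix.transvection_mul_apply_of_ne _ _ _ _ hr, one_mul] at this
    exact add_eq_left.1 this
  · have := e i c
    rw [Matrix.mul_transvection_apply_of_ne _ _ _ _ hc, Matrix.transvection_mul_apply_same, one_mul] at this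
    exact add_eq_left.1 this.symm

theorem eq_slU_of_closed (p : ℕ) [Fact p.Prime] [CharP K p] (hn : 3 ≤ n) {T : Subgroup SL(n, K)}
    (hle : T ≤ slU n K) (hne : T ≠ ⊥)
    (hcl : ∀ x ∈ T, ∀ g, g * x * g⁻¹ ∈ slU n K → g * x * g⁻¹ ∈ T) : T = slU n K := by
  haveI : (T.subgroupOf (slU n K)).Normal :=
    ⟨fun x hx u => hcl _ hx u (mul_mem (mul_mem u.2 x.2) (inv_mem u.2))⟩
  have hU : IsPGroup p (slU n K) := fun u => ⟨n, Subtype.ext (slU_pow_eq_one p u.2)⟩
  have hne' : T.subgroupOf (slU n K) ≠ ⊥ := fun h => hne (by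
    rw [← Subgroup.map_subgroupOf_eq_of_le hle, h, Subgroup.map_bot])
  obtain ⟨z, hz, hz1⟩ := (Subgroup.bot_or_exists_ne_one _).resolve_left
    (PGroup.inf_center_ne_bot hU hne')
  -- `z` is an elementary transvection
  set f : Fin n := ⟨0, by omega⟩ with hf
  set L : Fin n := ⟨n - 1, by omega⟩ with hL
  have hfL : f ≠ L := fun e => by simp [hf, hL, Fin.ext_iff] at e; omega
  have hcomm : ∀ (i j : Fin n) (hij : i ≠ j), i < j →
      (z : SL(n, K)) * Matrix.SpecialLinearGroup.transvection hij 1 =
        Matrix.SpecialLinearGroup.transvection hij 1 * (z : SL(n, K)) := fun i j hij hlt =>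
    (congrArg Subtype.val (Subgroup.mem_center_iff.1 hz.2 ⟨_, transvection_mem_slU hij hlt 1⟩)).symm
  have hoff : ∀ r c : Fin n, r ≠ c → ¬ (r = f ∧ c = L) → (z : SL(n, K)).1 r c = 0 := by
    intro r c hrc hnot
    by_cases hc : c = L
    · subst hc
      have hr0 : r ≠ f := fun e => hnot ⟨e, rfl⟩
      have hlt : f < r := by
        rw [Fin.lt_def]
        have : r.1 ≠ 0 := fun e => hr0 (Fin.ext e)
        show 0 < r.1
        omega
      exact (commute_transvection hlt.ne (hcomm _ _ hlt.ne hlt)).2.2 _ (Ne.symm hrc)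
    · have hlt : c < L := by
        rw [Fin.lt_def]
        have : c.1 ≠ n - 1 := fun e => hc (Fin.ext e)
        have := c.2
        show c.1 < n - 1
        omega
      exact (commute_transvection hlt.ne (hcomm _ _ hlt.ne hlt)).2.1 _ hrc
  have hzval : (z : SL(n, K)) = Matrix.SpecialLinearGroup.transvection hfL ((z : SL(n, K)).1 f L) := by
    refine Subtype.ext (Matrix.ext fun r c => ?_)
    show _ = Matrix.transvection f L ((z : SL(n, K)).1 f L) r c
    rw [Matrix.transvection, Matrix.add_apply, Matrix.one_apply, Matrix.single_apply]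
    by_cases hrc : r = c
    · subst hrc
      rw [mem_slU.1 z.2 r r le_rfl, if_pos rfl, if_neg, add_zero]
      exact fun e => hfL (e.1.trans e.2.symm)
    · by_cases h : f = r ∧ L = c
      · obtain ⟨rfl, rfl⟩ := h
        rw [if_neg hrc, if_pos ⟨rfl, rfl⟩, zero_add]
      · rw [if_neg hrc, if_neg h, add_zero, hoff r c hrc fun e => h ⟨e.1.symm, e.2.symm⟩]
  have ha : (z : SL(n, K)).1 f L ≠ 0 := fun h => hz1 (Subtype.ext (by
    rw [hzval, h, transvection_zero]; rfl))
  have hzT : (z : SL(n, K)) ∈ T := hz.1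
  refine le_antisymm hle (slU_le_of_transvections fun i j hij hlt c => ?_)
  by_cases hc : c = 0
  · rw [hc, transvection_zero]; exact one_mem _
  obtain ⟨g, hg⟩ := isConj_iff.1 (hzval ▸ isConj_transvection hn hfL hij ha hc :
    IsConj (z : SL(n, K)) (Matrix.SpecialLinearGroup.transvection hij c))
  have := hcl _ hzT g (hg.symm ▸ transvection_mem_slU hij hlt c)
  rwa [hg] at this

/-! ### Radicals of the minimal parabolics -/

/-- Unitriangular elements with zero `(k, k')` entry. -/
def slR (k k' : Fin n) (h : k'.1 = k.1 + 1) : Subgroup SL(n, K) :=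
  subgroupOfSubmonoidFinite
    { carrier := {g | g ∈ slU n K ∧ g.1 k k' = 0}
      one_mem' := ⟨one_mem _, by
        rw [Matrix.SpecialLinearGroup.coe_one]; exact Matrix.one_apply_ne (fun e => by simp [e] at h)⟩
      mul_mem' := fun {g g'} hg hg' => by
        refine ⟨mul_mem hg.1 hg'.1, ?_⟩
        rw [Matrix.SpecialLinearGroup.coe_mul, Matrix.mul_apply]
        refine Finset.sum_eq_zero fun i _ => ?_
        by_cases h1 : i = k
        · subst h1; rw [hg'.2, mul_zero]
        · by_cases h2 : i = k'
          · subst h2; rw [hg.2, zero_mul]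
          · rcases lt_or_ge i k with h3 | h3
            · rw [mem_slU.1 hg.1 k i h3.le, if_neg (Ne.symm h1), zero_mul]
            · have h4 : k' ≤ i := by
                have : k.1 ≠ i.1 := fun e => h1 (Fin.ext e.symm)
                rw [Fin.le_def] at h3 ⊢; omega
              rw [mem_slU.1 hg'.1 i k' h4, if_neg h2, mul_zero] }

theorem mem_slR {k k' : Fin n} {h : k'.1 = k.1 + 1} {g : SL(n, K)} :
    g ∈ slR k k' h ↔ g ∈ slU n K ∧ g.1 k k' = 0 := Iff.rfl

theorem transvection_conj_slR {k k' : Fin n} (h : k'.1 = k.1 + 1) {a b : Fin n}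
    (hab : a ≠ b) (hk : (a = k ∧ b = k') ∨ (a = k' ∧ b = k)) (t : K) {g : SL(n, K)}
    (hg : g ∈ slR k k' h) :
    Matrix.SpecialLinearGroup.transvection hab t * g *
      (Matrix.SpecialLinearGroup.transvection hab t)⁻¹ ∈ slR k k' h := by
  obtain ⟨hA, hkk⟩ := hg
  have hA' : IsUpperUni g.1 := hA
  have hv : ∀ i j, (Matrix.SpecialLinearGroup.transvection hab t * g *
      (Matrix.SpecialLinearGroup.transvection hab t)⁻¹).1 i j =
      g.1 i j + (if i = a then t * g.1 b j else 0) -
        (if j = b then t * (g.1 i a + (if i = a then t * g.1 b a else 0)) else 0) := by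
    intro i j
    rw [Matrix.SpecialLinearGroup.transvection_inv]
    show (Matrix.transvection a b t * g.1 * Matrix.transvection a b (-t)) i j = _
    by_cases hi : i = a <;> by_cases hj : j = b
    · subst hi hj
      simp only [Matrix.mul_transvection_apply_same, Matrix.transvection_mul_apply_same, if_true]
      ring
    · subst hi
      simp only [Matrix.mul_transvection_apply_of_ne _ _ _ _ hj,
        Matrix.transvection_mul_apply_same, if_true, if_neg hj]
      ring
    · subst hj
      simp only [Matrix.mul_transvection_apply_same,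
        Matrix.transvection_mul_apply_of_ne _ _ _ _ hi, if_true, if_neg hi]
      ring
    · simp only [Matrix.mul_transvection_apply_of_ne _ _ _ _ hj,
        Matrix.transvection_mul_apply_of_ne _ _ _ _ hi, if_neg hi, if_neg hj]
      ring
  refine mem_slR.2 ⟨fun i j hij => ?_, ?_⟩
  · rw [hv]
    grind [IsUpperUni]
  · rw [hv]
    grind [IsUpperUni]

theorem centralizer_slR (hn : 3 ≤ n) {k k' : Fin n} (h : k'.1 = k.1 + 1) {g : SL(n, K)}
    (hg : ∀ r ∈ slR (K := K) k k' h, g * r = r * g) :
    ∃ z ∈ Subgroup.center SL(n, K), z * g ∈ slR k k' h := by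
  set f : Fin n := ⟨0, by omega⟩ with hf
  set L : Fin n := ⟨n - 1, by omega⟩ with hL
  have hkk : k ≠ k' := fun e => by simp [e] at h
  have hcomm : ∀ (i j : Fin n) (hij : i ≠ j), i < j → ¬ (i = k ∧ j = k') →
      g * Matrix.SpecialLinearGroup.transvection hij 1 =
        Matrix.SpecialLinearGroup.transvection hij 1 * g := by
    intro i j hij hlt hnot
    refine hg _ ⟨transvection_mem_slU hij hlt 1, ?_⟩
    show Matrix.transvection i j (1 : K) k k' = 0
    rw [Matrix.transvection, Matrix.add_apply, Matrix.one_apply_ne hkk,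
      Matrix.single_apply_of_ne _ _ _ _ _ hnot, add_zero]
  have hcol : ∀ r c : Fin n, r ≠ c → c ≠ L → (c = k → k' ≠ L) → g.1 r c = 0 := by
    intro r c hrc hcL hck
    have hlt : c < L := by
      rw [Fin.lt_def]
      have : c.1 ≠ n - 1 := fun e => hcL (Fin.ext e)
      have := c.2
      show c.1 < n - 1
      omega
    refine (commute_transvection hlt.ne (hcomm _ _ hlt.ne hlt fun e => hck e.1 e.2.symm)).2.1 _ hrc
  have hrow : ∀ r c : Fin n, r ≠ c → r ≠ f → (r = k' → k ≠ f) → g.1 r c = 0 := by
    intro r c hrc hrf hrk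
    have hlt : f < r := by
      rw [Fin.lt_def]
      have : r.1 ≠ 0 := fun e => hrf (Fin.ext e)
      show 0 < r.1
      omega
    exact (commute_transvection hlt.ne (hcomm _ _ hlt.ne hlt fun e => hrk e.2 e.1.symm)).2.2 _ (Ne.symm hrc)
  have hdiag : ∀ i, g.1 i i = g.1 f f := by
    have hpair : ∀ (i j : Fin n), i < j → ¬ (i = k ∧ j = k') → g.1 i i = g.1 j j := fun i j hlt hnot =>
      (commute_transvection hlt.ne (hcomm _ _ hlt.ne hlt hnot)).1
    intro i
    by_cases hi : i = f
    · rw [hi]
    have hlt : f < i := by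
      rw [Fin.lt_def]
      have : i.1 ≠ 0 := fun e => hi (Fin.ext e)
      show 0 < i.1
      omega
    by_cases hnot : f = k ∧ i = k'
    · have hk0 : k.1 = 0 := by rw [← hnot.1, hf]
      have h1 : i < L := by
        rw [Fin.lt_def, hnot.2]
        show k'.1 < n - 1
        omega
      have h2 : f < L := by
        rw [Fin.lt_def]
        show 0 < n - 1
        omega
      rw [hpair f L h2 (fun e => h1.ne (hnot.2.trans e.2.symm)),
        hpair i L h1 (fun e => hi (e.1.trans hnot.1.symm))]
    · exact (hpair f i hlt hnot).symm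
  have hup : ∀ r c : Fin n, c < r → g.1 r c = 0 := by
    intro r c hlt
    by_cases hc : c = L
    · exfalso
      subst hc
      rw [Fin.lt_def] at hlt
      have := r.2
      change n - 1 < r.1 at hlt
      omega
    by_cases hck : c = k ∧ k' = L
    · refine hrow r c hlt.ne' (fun e => ?_) fun e e' => ?_
      · subst e
        rw [Fin.lt_def] at hlt
        change c.1 < 0 at hlt
        omega
      · have h1 : k.1 = 0 := by rw [e']
        have h2 : k'.1 = n - 1 := by rw [hck.2]
        omega
    · exact hcol r c hlt.ne' hc fun e e' => hck ⟨e, e'⟩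
  have hkk0 : g.1 k k' = 0 := by
    by_cases hk0 : k = f
    · refine hcol k k' hkk ?_ fun e => absurd e hkk.symm
      intro e
      have h1 : k.1 = 0 := by rw [hk0]
      have h2 : k'.1 = n - 1 := by rw [e]
      omega
    · exact hrow k k' hkk hk0 fun e => absurd e hkk
  have hdet : g.1 f f ^ n = 1 := by
    have := g.2
    rw [Matrix.det_of_upperTriangular (M := g.1) fun i j hji => hup i j hji] at this
    simpa [hdiag] using this
  have hne : g.1 f f ≠ 0 := fun e => by
    rw [e, zero_pow (by omega)] at hdet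
    exact zero_ne_one hdet
  have hzdet : (Matrix.scalar (Fin n) (g.1 f f)⁻¹).det = 1 := by
    rw [Matrix.scalar_apply, Matrix.det_diagonal, Finset.prod_const, Finset.card_univ,
      Fintype.card_fin, inv_pow, hdet, inv_one]
  refine ⟨⟨_, hzdet⟩, Matrix.SpecialLinearGroup.mem_center_iff.2
    ⟨(g.1 f f)⁻¹, by rw [Fintype.card_fin, inv_pow, hdet, inv_one], rfl⟩, fun i j hji => ?_, ?_⟩
  · show (Matrix.scalar (Fin n) (g.1 f f)⁻¹ * g.1) i j = _
    rw [Matrix.scalar_apply, Matrix.diagonal_mul]
    rcases hji.lt_or_eq with hlt | rfl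
    · rw [hup i j hlt, mul_zero, if_neg hlt.ne']
    · rw [hdiag j, inv_mul_cancel₀ hne, if_pos rfl]
  · show (Matrix.scalar (Fin n) (g.1 f f)⁻¹ * g.1) k k' = 0
    rw [Matrix.scalar_apply, Matrix.diagonal_mul, hkk0, mul_zero]

theorem center_eq_one (p : ℕ) [Fact p.Prime] [CharP K p] {z : SL(n, K)}
    (hz : z ∈ Subgroup.center SL(n, K)) {k : ℕ} (hk : z ^ p ^ k = 1) : z = 1 := by
  obtain ⟨r, -, hr⟩ := Matrix.SpecialLinearGroup.mem_center_iff.1 hz
  refine Subtype.ext (Matrix.ext fun i j => ?_)
  haveI : Nonempty (Fin n) := ⟨i⟩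
  have h1 : Matrix.scalar (Fin n) (r ^ p ^ k) = Matrix.scalar (Fin n) 1 := by
    rw [map_pow, hr, map_one, ← Matrix.SpecialLinearGroup.coe_pow, hk, Matrix.SpecialLinearGroup.coe_one]
  have h2 : r = 1 := iterateFrobenius_inj K p k (by
    simpa [iterateFrobenius_def] using Matrix.scalar_inj.1 h1)
  rw [← hr, h2, map_one, Matrix.SpecialLinearGroup.coe_one]

end Cfsg.Agent.SLFusion
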